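import Mathlib
import Groth.Prelude.Def_ModFun

/-!
# A twisted isotrivial family over a non-separated curve

If a curve `E` has an automorphism moving a point, gluing two copies of `E × U` over the two
punctured branches of the node `U` (by the identity on one branch and by the automorphism on the
other) gives a family which is locally constant but not constant, so no fine moduli scheme exists.
-/

set_option autoImplicit false
set_option linter.style.haveILetI false

universe u

open CategoryTheory CategoryTheory.Limits AlgebraicGeometry TopologicalSpace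

namespace Groth.Misc14.M1

section Pushout

variable {V X Y : Scheme.{u}} (f : V ⟶ X) (g : V ⟶ Y) [IsOpenImmersion f] [IsOpenImmersion g]

instance span_map_isOpenImmersion {i j : WalkingSpan} (a : i ⟶ j) :
    IsOpenImmersion ((span f g).map a) := by
  rcases a with _ | ⟨_ | _⟩
  · rw [show WidePushoutShape.Hom.id i = 𝟙 i from rfl, CategoryTheory.Functor.map_id]; infer_instance
  · exact ‹IsOpenImmersion f›
  · exact ‹IsOpenImmersion g›

theorem pushout_cover (z : (pushout f g : Scheme.{u})) :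
    (∃ x, pushout.inl f g x = z) ∨ ∃ y, pushout.inr f g y = z := by
  obtain ⟨i, xi, h⟩ := Scheme.IsLocallyDirected.ι_jointly_surjective (span f g) z
  rcases i with _ | (_ | _)
  · refine Or.inl ⟨f xi, ?_⟩
    exact ((Scheme.Hom.comp_apply f (pushout.inl f g) xi).symm.trans
      (congrArg (fun t : V ⟶ pushout f g => t xi) (colimit.w (span f g) WalkingSpan.Hom.fst))).trans h
  · exact Or.inl ⟨xi, h⟩
  · exact Or.inr ⟨xi, h⟩

theorem exists_of_inl_eq_inr {x : X} {y : Y} (h : pushout.inl f g x = pushout.inr f g y) :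
    ∃ v, f v = x ∧ g v = y := by
  obtain ⟨k, a, b, v, ha, hb⟩ := (Scheme.IsLocallyDirected.ι_eq_ι_iff (span f g)
    (i := WalkingSpan.left) (j := WalkingSpan.right) (xi := x) (xj := y)).1 h
  rcases k with _ | (_ | _)
  · obtain rfl : a = WalkingSpan.Hom.fst := Subsingleton.elim _ _
    obtain rfl : b = WalkingSpan.Hom.snd := Subsingleton.elim _ _
    exact ⟨v, ha, hb⟩
  · exact nomatch b
  · exact nomatch a

instance inl_isOpenImmersion : IsOpenImmersion (pushout.inl f g) :=
  inferInstanceAs (IsOpenImmersion (colimit.ι (span f g) WalkingSpan.left))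

instance inr_isOpenImmersion : IsOpenImmersion (pushout.inr f g) :=
  inferInstanceAs (IsOpenImmersion (colimit.ι (span f g) WalkingSpan.right))

end Pushout

open scoped Function in
/-- A map out of a binary coproduct by open immersions with disjoint images is an open immersion. -/
theorem isOpenImmersion_coprodDesc {X Y Z : Scheme.{u}} (a : X ⟶ Z) (b : Y ⟶ Z)
    [IsOpenImmersion a] [IsOpenImmersion b] (h : Disjoint (Set.range a) (Set.range b)) :
    IsOpenImmersion (coprod.desc a b) := by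
  let F : ULift.{u} WalkingPair → Scheme.{u} := fun i => i.1.casesOn X Y
  let α : ∀ i, F i ⟶ Z := fun i => match i with | ⟨.left⟩ => a | ⟨.right⟩ => b
  haveI : ∀ i, IsOpenImmersion (α i) := fun i => by rcases i with ⟨_ | _⟩ <;> assumption
  haveI : IsOpenImmersion (Sigma.desc α) := by
    refine isOpenImmersion_sigmaDesc _ _ ?_
    rintro ⟨_ | _⟩ ⟨_ | _⟩ hne <;> first | exact absurd rfl hne | exact h | exact h.symm
  have e : coprod.desc a b = (coprodIsoSigma X Y).hom ≫ Sigma.desc α := by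
    rw [← Iso.inv_comp_eq]
    refine Sigma.hom_ext _ _ fun i => ?_
    rcases i with ⟨_ | _⟩
    · rw [← Category.assoc, ι_left_coprodIsoSigma_inv, coprod.inl_desc, Sigma.ι_desc]
    · rw [← Category.assoc, ι_right_coprodIsoSigma_inv, coprod.inr_desc, Sigma.ι_desc]
  rw [e]; infer_instance

theorem range_coprodDesc {X Y Z : Scheme.{u}} (a : X ⟶ Z) (b : Y ⟶ Z) :
    Set.range (coprod.desc a b) = Set.range a ∪ Set.range b := by
  ext z
  constructor
  · rintro ⟨x, rfl⟩
    obtain ⟨(x | x), rfl⟩ := (coprodMk X Y).surjective x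
    · exact Or.inl ⟨x, by rw [coprodMk_inl, ← Scheme.Hom.comp_apply, coprod.inl_desc]⟩
    · exact Or.inr ⟨x, by rw [coprodMk_inr, ← Scheme.Hom.comp_apply, coprod.inr_desc]⟩
  · rintro (⟨x, rfl⟩ | ⟨x, rfl⟩)
    · exact ⟨coprod.inl (C := Scheme.{u}) x, by rw [← Scheme.Hom.comp_apply, coprod.inl_desc]⟩
    · exact ⟨coprod.inr (C := Scheme.{u}) x, by rw [← Scheme.Hom.comp_apply, coprod.inr_desc]⟩

/-- Smoothness is local on the target. -/
theorem smooth_isZariskiLocalAtTarget :
    IsZariskiLocalAtTarget (@Smooth : MorphismProperty Scheme.{u}) :=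
  haveI : HasRingHomProperty (@Smooth : MorphismProperty Scheme.{u}) RingHom.Smooth := inferInstance
  HasRingHomProperty.instIsZariskiLocalAtTarget (@Smooth : MorphismProperty Scheme.{u})

/-- A point with values in a field factors through an open immersion meeting its image. -/
theorem exists_factor {K : Type u} [Field K] {T U : Scheme.{u}} (ι : U ⟶ T) [IsOpenImmersion ι]
    (t : Spec (CommRingCat.of K) ⟶ T) (z : Spec (CommRingCat.of K)) (hz : t z ∈ Set.range ι) :
    ∃ t' : Spec (CommRingCat.of K) ⟶ U, t' ≫ ι = t := by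
  haveI : Subsingleton (Spec (CommRingCat.of K)) :=
    inferInstanceAs (Subsingleton (PrimeSpectrum K))
  refine ⟨IsOpenImmersion.lift ι t ?_, IsOpenImmersion.lift_fac _ _ _⟩
  rintro _ ⟨w, rfl⟩
  rwa [Subsingleton.elim w z]

/-- The node datum: a scheme with two disjoint opens and two arcs through a common point, each
entering one of the opens. -/
structure Node (k : Type u) [Field k] where
  U : Scheme.{u}
  sU : U ⟶ Spec (CommRingCat.of k)
  Da : U.Opens
  Db : U.Opens
  disj : Disjoint (Da : Set U) (Db : Set U)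
  A : Scheme.{u}
  sA : A ⟶ Spec (CommRingCat.of k)
  [intA : IsIntegral A]
  za : A ⟶ U
  zb : A ⟶ U
  za_over : za ≫ sU = sA
  zb_over : zb ≫ sU = sA
  za_mem : ∃ x, za x ∈ Da
  zb_mem : ∃ x, zb x ∈ Db
  c₀ : Spec (CommRingCat.of k) ⟶ A
  c₀_over : c₀ ≫ sA = 𝟙 _
  c₀_eq : c₀ ≫ za = c₀ ≫ zb

attribute [instance] Node.intA

variable {k : Type u} [Field k]

local notation "Sk" => Spec (CommRingCat.of k)

/-- The condition on `E` making every locally constant family with fibre `E` admissible. -/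
def GoodFibre (g : ℕ) {E : Scheme.{u}} (p : E ⟶ Sk) : Prop :=
  Smooth p ∧ IsProper p ∧
    (∀ (K : Type u) [Field K] (X : Scheme.{u}) (i : X ⟶ E) (q : X ⟶ Spec (CommRingCat.of K))
      (t : Spec (CommRingCat.of K) ⟶ Sk), IsPullback i q p t → IrreducibleSpace X) ∧
    ∀ (Ω : Type u) [Field Ω] [IsAlgClosed Ω] (t : Spec (CommRingCat.of Ω) ⟶ Sk) (X : Scheme.{u})
      (i : X ⟶ E) (q : X ⟶ Spec (CommRingCat.of Ω)), IsPullback i q p t →
      topologicalKrullDim X = 1 ∧
        (letI : X.Over (Spec (CommRingCat.of Ω)) := ⟨q⟩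
         Curv2.genus Ω X = g)

/-- A locally constant family with good fibre is a curve. -/
theorem isCurveOfGenus_of_locallyConstant {g : ℕ} {E C T : Scheme.{u}} {p : E ⟶ Sk}
    (hp : GoodFibre g p) (π : C ⟶ T) {U : Scheme.{u}} {W : Scheme.{u}} (sU : U ⟶ Sk)
    (fst : W ⟶ E) (snd : W ⟶ U) (hW : IsPullback fst snd p sU)
    (ι₁ ι₂ : U ⟶ T) [IsOpenImmersion ι₁] [IsOpenImmersion ι₂]
    (hcov : ∀ z : T, (∃ x, ι₁ x = z) ∨ ∃ x, ι₂ x = z)
    (j₁ j₂ : W ⟶ C) (h₁ : IsPullback j₁ snd π ι₁) (h₂ : IsPullback j₂ snd π ι₂) :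
    ModFun.IsCurveOfGenus g π := by
  obtain ⟨hsm, hpr, hirr, hgen⟩ := hp
  haveI : Smooth snd := MorphismProperty.of_isPullback hW hsm
  haveI : IsProper snd := MorphismProperty.of_isPullback hW hpr
  have loc : ∀ (P : MorphismProperty Scheme.{u}) [IsZariskiLocalAtTarget P], P snd → P π := by
    intro P _ hP
    refine IsZariskiLocalAtTarget.of_iSup_eq_top (P := P)
      (fun b : Bool => if b then ι₁.opensRange else ι₂.opensRange) ?_ ?_
    · rw [eq_top_iff]
      intro z _
      rw [Opens.mem_iSup]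
      rcases hcov z with ⟨x, rfl⟩ | ⟨x, rfl⟩
      · exact ⟨true, x, rfl⟩
      · exact ⟨false, x, rfl⟩
    · rintro (_ | _)
      · show P (π ∣_ ι₂.opensRange)
        rw [P.arrow_mk_iso_iff (morphismRestrictOpensRange π ι₂), ← h₂.isoPullback_inv_snd,
          P.cancel_left_of_respectsIso]
        exact hP
      · show P (π ∣_ ι₁.opensRange)
        rw [P.arrow_mk_iso_iff (morphismRestrictOpensRange π ι₁), ← h₁.isoPullback_inv_snd,
          P.cancel_left_of_respectsIso]
        exact hP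
  have fac : ∀ (K : Type u) [Field K] (t : Spec (CommRingCat.of K) ⟶ T) (X : Scheme.{u})
      (i : X ⟶ C) (q : X ⟶ Spec (CommRingCat.of K)), IsPullback i q π t →
      ∃ (i' : X ⟶ E) (t' : Spec (CommRingCat.of K) ⟶ Sk), IsPullback i' q p t' := by
    intro K _ t X i q h
    haveI : Nonempty (Spec (CommRingCat.of K)) := inferInstanceAs (Nonempty (PrimeSpectrum K))
    let z : Spec (CommRingCat.of K) := Classical.arbitrary _
    obtain ⟨ι, j, hι, hj, hz⟩ : ∃ (ι : U ⟶ T) (j : W ⟶ C), IsOpenImmersion ι ∧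
        IsPullback j snd π ι ∧ t z ∈ Set.range ι := by
      rcases hcov (t z) with hx | hx
      · exact ⟨ι₁, j₁, inferInstance, h₁, hx⟩
      · exact ⟨ι₂, j₂, inferInstance, h₂, hx⟩
    obtain ⟨t', rfl⟩ := exists_factor ι t z hz
    let l := hj.lift i (q ≫ t') (by rw [h.w, Category.assoc])
    have hl : IsPullback l q snd t' :=
      IsPullback.of_right (by rw [hj.lift_fst]; exact h) (hj.lift_snd _ _ _) hj
    exact ⟨l ≫ fst, t' ≫ sU, hl.paste_horiz hW⟩
  refine ⟨(haveI := smooth_isZariskiLocalAtTarget.{u}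
    loc (@Smooth : MorphismProperty Scheme.{u}) inferInstance),
    loc (@IsProper : MorphismProperty Scheme.{u}) inferInstance, ⟨?_⟩, ?_⟩
  · intro K _ y X i q h
    obtain ⟨i', t', h'⟩ := fac K y X i q h
    exact hirr K X i' q t' h'
  · intro Ω _ _ t X i q h
    obtain ⟨i', t', h'⟩ := fac Ω t X i q h
    exact hgen Ω t' X i' q h'

theorem r_pull_iff {S : Scheme.{u}} {T M : Over S} (h : T ⟶ M) (ξ : Over M.left)
    (x : Over T.left) :
    Nonempty ((Over.pullback h.left).obj ξ ≅ x) ↔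
      ∃ a : x.left ⟶ ξ.left, IsPullback a x.hom ξ.hom h.left := by
  constructor
  · rintro ⟨e⟩
    let e' : ((Over.pullback h.left).obj ξ).left ≅ x.left := (Over.forget _).mapIso e
    refine ⟨e'.inv ≫ pullback.fst ξ.hom h.left, ?_⟩
    refine (IsPullback.of_hasPullback ξ.hom h.left).of_iso e' (Iso.refl _) (Iso.refl _) (Iso.refl _)
      (by simp) ?_ (by simp) (by simp)
    simpa [e'] using (Over.w e.hom).symm
  · rintro ⟨a, ha⟩
    exact ⟨(Over.isoMk ha.isoPullback (by simp)).symm⟩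

/-- **No fine moduli**: if some good curve over `k` has an automorphism moving a rational point,
curves have no fine moduli scheme. -/
theorem not_isFineModuli (g : ℕ) (N : Node k) {E : Scheme.{u}} (p : E ⟶ Sk) (hp : GoodFibre g p)
    (σ : E ≅ E) (hσ : σ.hom ≫ p = p) (o : Sk ⟶ E) (ho : o ≫ p = 𝟙 _) (hne : o ≫ σ.hom ≠ o)
    (M : Over Sk) : ¬ ModFun.IsFineModuli ⊤ (ModFun.Mg Sk g) M := by
  rintro ⟨ξ, -, huniv⟩
  haveI : IsProper p := hp.2.1
  let U := N.U
  let W := pullback p N.sU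
  let fst : W ⟶ E := pullback.fst p N.sU
  let snd : W ⟶ U := pullback.snd p N.sU
  have hW : IsPullback fst snd p N.sU := IsPullback.of_hasPullback _ _
  have hσ' : σ.inv ≫ p = p := by rw [Iso.inv_comp_eq, hσ]
  let σW : W ≅ W :=
    { hom := pullback.lift (fst ≫ σ.hom) snd (by rw [Category.assoc, hσ, pullback.condition])
      inv := pullback.lift (fst ≫ σ.inv) snd (by rw [Category.assoc, hσ', pullback.condition])
      hom_inv_id := pullback.hom_ext
        (by rw [Category.assoc, pullback.lift_fst, pullback.lift_fst_assoc, Category.assoc,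
          σ.hom_inv_id, Category.comp_id, Category.id_comp])
        (by rw [Category.assoc, pullback.lift_snd, pullback.lift_snd, Category.id_comp])
      inv_hom_id := pullback.hom_ext
        (by rw [Category.assoc, pullback.lift_fst, pullback.lift_fst_assoc, Category.assoc,
          σ.inv_hom_id, Category.comp_id, Category.id_comp])
        (by rw [Category.assoc, pullback.lift_snd, pullback.lift_snd, Category.id_comp]) }
  have hσW : σW.hom ≫ snd = snd := pullback.lift_snd _ _ _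
  have hσWf : σW.hom ≫ fst = fst ≫ σ.hom := pullback.lift_fst _ _ _
  let Wa : W.Opens := snd ⁻¹ᵁ N.Da
  let Wb : W.Opens := snd ⁻¹ᵁ N.Db
  let j : (Wa : Scheme.{u}) ⨿ (Wb : Scheme.{u}) ⟶ W := coprod.desc Wa.ι Wb.ι
  let θ : (Wa : Scheme.{u}) ⨿ (Wb : Scheme.{u}) ⟶ W := coprod.desc Wa.ι (Wb.ι ≫ σW.hom)
  let j₀ : (N.Da : Scheme.{u}) ⨿ (N.Db : Scheme.{u}) ⟶ U := coprod.desc N.Da.ι N.Db.ι
  have hrb : Set.range (Wb.ι ≫ σW.hom) = (Wb : Set W) := by
    ext w
    constructor
    · rintro ⟨v, rfl⟩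
      show snd ((Wb.ι ≫ σW.hom) v) ∈ N.Db
      rw [← Scheme.Hom.comp_apply, Category.assoc, hσW, Scheme.Hom.comp_apply]
      exact v.2
    · intro hw
      have hw' : σW.inv w ∈ Wb := by
        show snd (σW.inv w) ∈ N.Db
        rw [← Scheme.Hom.comp_apply, (show σW.inv ≫ snd = snd from pullback.lift_snd _ _ _)]
        exact hw
      refine ⟨⟨σW.inv w, hw'⟩, ?_⟩
      show σW.hom (σW.inv w) = w
      rw [← Scheme.Hom.comp_apply, σW.inv_hom_id]
      rfl
  have hdW : Disjoint (Wa : Set W) (Wb : Set W) := N.disj.preimage snd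
  haveI : IsIso σW.hom := ⟨σW.inv, σW.hom_inv_id, σW.inv_hom_id⟩
  haveI : IsOpenImmersion σW.hom := IsOpenImmersion.of_isIso σW.hom
  haveI : IsOpenImmersion (Wb.ι ≫ σW.hom) := IsOpenImmersion.comp _ _
  haveI : IsOpenImmersion j := isOpenImmersion_coprodDesc _ _
    (by rw [Scheme.Opens.range_ι, Scheme.Opens.range_ι]; exact hdW)
  haveI : IsOpenImmersion θ := isOpenImmersion_coprodDesc _ _
    (by rw [Scheme.Opens.range_ι, hrb]; exact hdW)
  haveI : IsOpenImmersion j₀ := isOpenImmersion_coprodDesc _ _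
    (by rw [Scheme.Opens.range_ι, Scheme.Opens.range_ι]; exact N.disj)
  have hrj : Set.range j = snd ⁻¹' Set.range j₀ := by
    rw [range_coprodDesc, range_coprodDesc]; simp only [Scheme.Opens.range_ι]; rfl
  have hrθ : Set.range θ = snd ⁻¹' Set.range j₀ := by
    rw [range_coprodDesc, range_coprodDesc, hrb]; simp only [Scheme.Opens.range_ι]; rfl
  -- the base and the family
  let T : Scheme.{u} := pushout j₀ j₀
  let C : Scheme.{u} := pushout j θ
  let qq : (Wa : Scheme.{u}) ⨿ (Wb : Scheme.{u}) ⟶ (N.Da : Scheme.{u}) ⨿ (N.Db : Scheme.{u}) :=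
    coprod.map (snd ∣_ N.Da) (snd ∣_ N.Db)
  have hqj : qq ≫ j₀ = j ≫ snd := by
    apply coprod.hom_ext <;> simp [qq, j₀, j, morphismRestrict_ι, Wa, Wb]
  have hqθ : qq ≫ j₀ = θ ≫ snd := by
    apply coprod.hom_ext <;>
      simp [qq, j₀, θ, morphismRestrict_ι, Wa, Wb, hσW]
  let π : C ⟶ T := pushout.desc (snd ≫ pushout.inl j₀ j₀) (snd ≫ pushout.inr j₀ j₀)
    (by rw [← reassoc_of% hqj, pushout.condition, reassoc_of% hqθ])
  let sT : T ⟶ Sk := pushout.desc N.sU N.sU rfl
  have hπl : pushout.inl j θ ≫ π = snd ≫ pushout.inl j₀ j₀ := pushout.inl_desc _ _ _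
  have hπr : pushout.inr j θ ≫ π = snd ≫ pushout.inr j₀ j₀ := pushout.inr_desc _ _ _
  have h₁ : IsPullback (pushout.inl j θ) snd π (pushout.inl j₀ j₀) := by
    refine (IsOpenImmersion.isPullback snd (pushout.inl j θ) (pushout.inl j₀ j₀) π
      hπl ?_).flip
    refine SetLike.coe_injective ?_
    ext c
    symm
    constructor
    · rintro ⟨w, rfl⟩
      exact ⟨snd w, by rw [← Scheme.Hom.comp_apply, ← Scheme.Hom.comp_apply]; simp only [hπl, hπr]⟩
    · rintro ⟨x, hx⟩
      rcases pushout_cover j θ c with ⟨w, rfl⟩ | ⟨w, rfl⟩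
      · exact ⟨w, rfl⟩
      · replace hx : pushout.inl j₀ j₀ x = pushout.inr j₀ j₀ (snd w) := by
          rw [hx, ← Scheme.Hom.comp_apply, ← Scheme.Hom.comp_apply]; simp only [hπl, hπr]
        obtain ⟨v, -, hv⟩ := exists_of_inl_eq_inr _ _ hx
        obtain ⟨v', rfl⟩ : w ∈ Set.range θ := by rw [hrθ]; exact ⟨v, hv⟩
        refine ⟨j v', ?_⟩
        rw [← Scheme.Hom.comp_apply, ← Scheme.Hom.comp_apply, pushout.condition]
  have h₂ : IsPullback (pushout.inr j θ) snd π (pushout.inr j₀ j₀) := by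
    refine (IsOpenImmersion.isPullback snd (pushout.inr j θ) (pushout.inr j₀ j₀) π
      hπr ?_).flip
    refine SetLike.coe_injective ?_
    ext c
    symm
    constructor
    · rintro ⟨w, rfl⟩
      exact ⟨snd w, by rw [← Scheme.Hom.comp_apply, ← Scheme.Hom.comp_apply]; simp only [hπl, hπr]⟩
    · rintro ⟨x, hx⟩
      rcases pushout_cover j θ c with ⟨w, rfl⟩ | ⟨w, rfl⟩
      · replace hx : pushout.inl j₀ j₀ (snd w) = pushout.inr j₀ j₀ x := by
          rw [hx, ← Scheme.Hom.comp_apply, ← Scheme.Hom.comp_apply]; simp only [hπl, hπr]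
        obtain ⟨v, hv, -⟩ := exists_of_inl_eq_inr _ _ hx
        obtain ⟨v', rfl⟩ : w ∈ Set.range j := by rw [hrj]; exact ⟨v, hv⟩
        refine ⟨θ v', ?_⟩
        rw [← Scheme.Hom.comp_apply, ← Scheme.Hom.comp_apply, pushout.condition]
      · exact ⟨w, rfl⟩
  -- admissibility
  have hokT : ModFun.IsCurveOfGenus g π :=
    isCurveOfGenus_of_locallyConstant hp π N.sU fst snd hW _ _ (pushout_cover j₀ j₀) _ _ h₁ h₂
  have hokU : ModFun.IsCurveOfGenus g snd :=
    isCurveOfGenus_of_locallyConstant hp snd N.sU fst snd hW (𝟙 _) (𝟙 _) (fun z => Or.inl ⟨z, rfl⟩)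
      (𝟙 _) (𝟙 _) (IsPullback.of_horiz_isIso ⟨by simp⟩) (IsPullback.of_horiz_isIso ⟨by simp⟩)
  have hokS : ModFun.IsCurveOfGenus g p :=
    isCurveOfGenus_of_locallyConstant hp p (𝟙 Sk) (𝟙 E) p (IsPullback.of_horiz_isIso ⟨by simp⟩)
      (𝟙 _) (𝟙 _) (fun z => Or.inl ⟨z, rfl⟩) (𝟙 E) (𝟙 E)
      (IsPullback.of_horiz_isIso ⟨by simp⟩) (IsPullback.of_horiz_isIso ⟨by simp⟩)
  -- classifying maps
  let TS : Over Sk := Over.mk sT
  let US : Over Sk := Over.mk N.sU
  let SS : Over Sk := Over.mk (𝟙 Sk)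
  obtain ⟨gT, hgT, -⟩ := huniv TS (Over.mk π : Over T) trivial ⟨trivial, hokT⟩
  obtain ⟨e, he, -⟩ := huniv SS (Over.mk p : Over Sk) trivial ⟨trivial, hokS⟩
  obtain ⟨aT, haT⟩ := (r_pull_iff gT ξ (Over.mk π : Over T)).1 hgT
  obtain ⟨aS, haS⟩ := (r_pull_iff e ξ (Over.mk p : Over Sk)).1 he
  let inlO : US ⟶ TS := Over.homMk (pushout.inl j₀ j₀) (pushout.inl_desc _ _ _)
  let inrO : US ⟶ TS := Over.homMk (pushout.inr j₀ j₀) (pushout.inr_desc _ _ _)
  let cS : US ⟶ SS := Over.homMk N.sU (by simp [US, SS])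
  obtain ⟨gU, -, huniqU⟩ := huniv US (Over.mk snd : Over U) trivial ⟨trivial, hokU⟩
  have key : ∀ h : US ⟶ M, (∃ a : W ⟶ (ξ : Over M.left).left,
      IsPullback a snd (ξ : Over M.left).hom h.left) → h = gU := fun h hh =>
    huniqU h ((r_pull_iff h ξ (Over.mk snd : Over U)).2 hh)
  have hc : cS ≫ e = gU := key _ ⟨fst ≫ aS, hW.paste_horiz haS⟩
  have hl : inlO ≫ gT = gU := key _ ⟨pushout.inl j θ ≫ aT, h₁.paste_horiz haT⟩
  have hr : inrO ≫ gT = gU := key _ ⟨pushout.inr j θ ≫ aT, h₂.paste_horiz haT⟩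
  have hg : gT.left = sT ≫ e.left := by
    apply pushout.hom_ext
    · rw [pushout.inl_desc_assoc]
      exact (congrArg CommaMorphism.left hl).trans (congrArg CommaMorphism.left hc).symm
    · rw [pushout.inr_desc_assoc]
      exact (congrArg CommaMorphism.left hr).trans (congrArg CommaMorphism.left hc).symm
  -- so the family is constant
  have haT' : IsPullback aT π ξ.hom (sT ≫ e.left) := by rw [← hg]; exact haT
  let Φ : C ⟶ E := haS.lift aT (π ≫ sT) (by rw [haT'.w, Category.assoc])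
  have hΦ : IsPullback Φ π p sT :=
    IsPullback.of_right (by rw [haS.lift_fst]; exact haT') (haS.lift_snd _ _ _) haS
  let A₁ : W ⟶ E := pushout.inl j θ ≫ Φ
  let A₂ : W ⟶ E := pushout.inr j θ ≫ Φ
  have hA₁ : IsPullback A₁ snd p N.sU := by
    have := h₁.paste_horiz hΦ
    rwa [show pushout.inl j₀ j₀ ≫ sT = N.sU from pushout.inl_desc _ _ _] at this
  have hA₂ : IsPullback A₂ snd p N.sU := by
    have := h₂.paste_horiz hΦ
    rwa [show pushout.inr j₀ j₀ ≫ sT = N.sU from pushout.inr_desc _ _ _] at this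
  have hglue : j ≫ A₁ = θ ≫ A₂ := pushout.condition_assoc Φ
  have hWa : Wa.ι ≫ A₁ = Wa.ι ≫ A₂ := by
    have := congrArg (coprod.inl ≫ ·) hglue
    exact ((coprod.inl_desc_assoc _ _ A₁).symm.trans this).trans (coprod.inl_desc_assoc _ _ A₂)
  have hWb : Wb.ι ≫ A₁ = Wb.ι ≫ σW.hom ≫ A₂ := by
    have := congrArg (coprod.inr ≫ ·) hglue
    exact (((coprod.inr_desc_assoc _ _ A₁).symm.trans this).trans
      (coprod.inr_desc_assoc _ _ A₂)).trans (Category.assoc _ _ _)
  -- evaluate along an arc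
  have hArc : ∀ (z : N.A ⟶ U) (hz : z ≫ N.sU = N.sA) (D : U.Opens) (hD : ∃ x, z x ∈ D)
      (B : W ⟶ E) (hB : B ≫ p = snd ≫ N.sU) (h : (snd ⁻¹ᵁ D).ι ≫ A₁ = (snd ⁻¹ᵁ D).ι ≫ B),
      pullback.lift o (N.c₀ ≫ z) (by rw [ho, Category.assoc, hz, N.c₀_over]) ≫ A₁ =
        pullback.lift o (N.c₀ ≫ z) (by rw [ho, Category.assoc, hz, N.c₀_over]) ≫ B := by
    intro z hz D hD B hB h
    let pt : N.A ⟶ W := pullback.lift (N.sA ≫ o) z (by rw [Category.assoc, ho, Category.comp_id, hz])
    let O : N.A.Opens := z ⁻¹ᵁ D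
    haveI : IsDominant O.ι := by
      obtain ⟨x, hx⟩ := hD
      refine ⟨?_⟩
      rw [DenseRange, Scheme.Opens.range_ι]
      exact O.2.dense ⟨x, hx⟩
    have hO : Set.range (O.ι ≫ pt) ⊆ Set.range (snd ⁻¹ᵁ D).ι := by
      rw [Scheme.Opens.range_ι]
      rintro _ ⟨v, rfl⟩
      show snd ((O.ι ≫ pt) v) ∈ D
      rw [← Scheme.Hom.comp_apply, Category.assoc, pullback.lift_snd, Scheme.Hom.comp_apply]
      exact v.2
    have hkey : pt ≫ A₁ = pt ≫ B := by
      refine ext_of_isDominant_of_isSeparated p ?_ O.ι ?_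
      · exact (Category.assoc _ _ _).trans ((congrArg (pt ≫ ·) (hA₁.w.trans hB.symm)).trans
          (Category.assoc _ _ _).symm)
      · have e2 := IsOpenImmersion.lift_fac (snd ⁻¹ᵁ D).ι (O.ι ≫ pt) hO
        rw [← reassoc_of% e2, ← reassoc_of% e2, h]
    have e1 : N.c₀ ≫ pt = pullback.lift o (N.c₀ ≫ z) (by rw [ho, Category.assoc, hz, N.c₀_over]) := by
      apply pullback.hom_ext
      · rw [Category.assoc, pullback.lift_fst, pullback.lift_fst, ← Category.assoc, N.c₀_over,
          Category.id_comp]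
      · rw [Category.assoc, pullback.lift_snd, pullback.lift_snd]
    rw [← e1, Category.assoc, Category.assoc, hkey]
  let pW : Sk ⟶ W := pullback.lift o (N.c₀ ≫ N.za)
    (by rw [ho, Category.assoc, N.za_over, N.c₀_over])
  have ea : pW ≫ A₁ = pW ≫ A₂ := hArc N.za N.za_over N.Da N.za_mem A₂ hA₂.w hWa
  have eb : pW ≫ A₁ = pW ≫ σW.hom ≫ A₂ := by
    have := hArc N.zb N.zb_over N.Db N.zb_mem (σW.hom ≫ A₂)
      (by rw [Category.assoc, hA₂.w, reassoc_of% hσW]) hWb
    simpa only [pW, N.c₀_eq] using this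
  have efix : pW = pW ≫ σW.hom := by
    refine hA₂.hom_ext ?_ ?_
    · rw [Category.assoc]; exact ea.symm.trans eb
    · rw [Category.assoc, hσW]
  refine hne ?_
  have := congrArg (· ≫ fst) efix
  have e0 : pW ≫ fst = o := pullback.lift_fst _ _ _
  simp only [Category.assoc, hσWf] at this
  rw [e0, reassoc_of% e0] at this
  exact this.symm

end Groth.Misc14.M1
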