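import Mathlib
import Groth.Agent.Misc3Bertini.Chart
import Groth.Agent.NeronArea.JacobianCriterion
import Groth.Agent.PlaneCurve.HypIdeal

/-!
# Jacobian criterion for plane curves
-/

set_option autoImplicit false
set_option linter.style.haveILetI false

universe u

open CategoryTheory CategoryTheory.Limits AlgebraicGeometry MvPolynomial HomogeneousLocalization

namespace Groth.Misc14.M1

variable {k : Type u} [Field k]

/-- The Jacobian hypothesis on the chart `X_j = 1`: there is a combination of the partial derivatives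
off `X_j` which is congruent to one modulo the two equations. -/
def ChartSmooth (G : MvPolynomial (Fin 3) k) (j : Fin 3) : Prop :=
  ∃ w : Fin 3 → MvPolynomial (Fin 3) k, w j = 0 ∧
    (∑ i, w i * pderiv i G) - 1 ∈ Ideal.span (Set.range ![X j - 1, G])

/-- A plane curve is smooth on a chart where the Jacobian hypothesis holds. -/
theorem formallySmooth_quotient {G : MvPolynomial (Fin 3) k} {j : Fin 3} (h : ChartSmooth G j) :
    Algebra.FormallySmooth k (MvPolynomial (Fin 3) k ⧸ Ideal.span (Set.range ![X j - 1, G])) := by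
  classical
  obtain ⟨w, hwj, hw⟩ := h
  let I := Ideal.span (Set.range ![X j - 1, G])
  let P := Algebra.Presentation.naive (v := ![X j - 1, G])
  have hP : ∀ q : MvPolynomial (Fin 3) k, aeval P.val q = Ideal.Quotient.mk I q := by
    intro q
    rw [show P.val = fun i => Ideal.Quotient.mk I (X i) from rfl]
    exact (AlgHom.congr_fun (aeval_unique (Ideal.Quotient.mkₐ k I)) q).symm
  have hw' : ∑ i, Ideal.Quotient.mk I (w i) * Ideal.Quotient.mk I (pderiv i G) = 1 := by
    rw [← map_one (Ideal.Quotient.mk I)]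
    simp only [← map_mul, ← map_sum]
    exact Ideal.Quotient.eq.2 hw
  set a : MvPolynomial (Fin 3) k ⧸ I := Ideal.Quotient.mk I (pderiv j G) with ha
  let L : Matrix (Fin 2) (Fin 3) (MvPolynomial (Fin 3) k ⧸ I) :=
    ![fun i => (if i = j then 1 else 0) - a * Ideal.Quotient.mk I (w i),
      fun i => Ideal.Quotient.mk I (w i)]
  refine (Groth.NeronArea.Jacobian.formallySmooth_and_stablyFree P L ?_).1
  have hd : ∀ i, Ideal.Quotient.mk I (pderiv i (X j - 1)) = if i = j then 1 else 0 := by
    intro i
    rw [map_sub, pderiv_X, pderiv_one, sub_zero, Pi.single_apply]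
    by_cases hij : i = j
    · simp [hij]
    · simp [hij, Ne.symm hij]
  ext r c
  simp only [Matrix.mul_apply, Matrix.of_apply, hP]
  fin_cases r <;> fin_cases c <;>
    simp only [Fin.zero_eta, Fin.mk_one, L, P, Algebra.Presentation.naive_relation_apply,
      Matrix.cons_val_zero, Matrix.cons_val_one, hd, Fin.isValue, Matrix.one_apply]
  · simp [hwj, sub_mul, Finset.sum_sub_distrib]
  · simp only [sub_mul, Finset.sum_sub_distrib, ite_mul, one_mul, zero_mul,
      Finset.sum_ite_eq', Finset.mem_univ, if_true, mul_assoc, ← Finset.mul_sum]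
    simp [hw', ha]
  · simp [hwj]
  · simp [hw']

/-- The quotient of the dehomogenized chart by the equation. -/
abbrev chartRing (G : MvPolynomial (Fin 3) k) (j : Fin 3) : Type u :=
  Away (CohB1.polyGrading 2 k) (X j : MvPolynomial (Fin 3) k) ⧸
    Ideal.span {Misc3Bertini.evalFrac k 2 j G}

/-- The chart of a curve is the affine curve `X_j = 1`. -/
noncomputable def chartMap (G : MvPolynomial (Fin 3) k) (j : Fin 3) :
    MvPolynomial (Fin 3) k ⧸ Ideal.span (Set.range ![X j - 1, G]) →+* chartRing G j :=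
  Ideal.Quotient.lift _ ((Ideal.Quotient.mk _).comp (Misc3Bertini.evalFrac k 2 j)) (by
    intro a ha
    refine (Ideal.span_le (I := RingHom.ker ((Ideal.Quotient.mk
      (Ideal.span {Misc3Bertini.evalFrac k 2 j G})).comp (Misc3Bertini.evalFrac k 2 j)))).2 ?_ ha
    rintro _ ⟨r, rfl⟩
    fin_cases r
    · have : Misc3Bertini.evalFrac k 2 j (X j) = 1 := by
        simp [Misc3Bertini.evalFrac, Misc3Bertini.frac_self]
      simp [RingHom.mem_ker, this]
    · simpa [RingHom.mem_ker] using
        Ideal.Quotient.eq_zero_iff_mem.2 (Ideal.mem_span_singleton_self _))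

theorem chartMap_bijective (G : MvPolynomial (Fin 3) k) (j : Fin 3) :
    Function.Bijective (chartMap G j) := by
  let Q := MvPolynomial (Fin 3) k ⧸ Ideal.span (Set.range ![X j - 1, G])
  let π : MvPolynomial (Fin 3) k →+* Q := Ideal.Quotient.mk _
  have hX : π (X j) = 1 := by
    rw [← map_one π]
    exact Ideal.Quotient.eq.2 (Ideal.subset_span ⟨0, by simp⟩)
  have hu : IsUnit (π (X j)) := hX ▸ isUnit_one
  let χ : Away (CohB1.polyGrading 2 k) (X j : MvPolynomial (Fin 3) k) →+* Q :=
    (IsLocalization.Away.lift (X j : MvPolynomial (Fin 3) k) hu).comp (Misc3Bertini.valHom k 2 j)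
  have hχ : ∀ q, χ (Misc3Bertini.evalFrac k 2 j q) = π q := by
    suffices χ.comp (Misc3Bertini.evalFrac k 2 j) = π from RingHom.congr_fun this
    apply MvPolynomial.ringHom_ext
    · intro c
      have := Misc3Bertini.val_evalFrac k 2 j (isHomogeneous_C (Fin 3) c)
      simp only [RingHom.comp_apply, χ, this, pow_zero, mul_one]
      exact IsLocalization.Away.lift_eq _ hu _
    · intro i
      have := Misc3Bertini.val_evalFrac k 2 j (isHomogeneous_X k i)
      simp only [RingHom.comp_apply, χ, this, pow_one, map_mul]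
      rw [IsLocalization.Away.lift_eq]
      have h2 : IsLocalization.Away.lift (X j : MvPolynomial (Fin 3) k) hu
          (IsLocalization.Away.invSelf (S := Localization.Away (X j : MvPolynomial (Fin 3) k)) (X j : MvPolynomial (Fin 3) k)) = 1 := by
        have h3 := congrArg (IsLocalization.Away.lift (X j : MvPolynomial (Fin 3) k) hu)
          (IsLocalization.Away.mul_invSelf (S := Localization.Away (X j : MvPolynomial (Fin 3) k)) (X j : MvPolynomial (Fin 3) k))
        rwa [map_mul, map_one, IsLocalization.Away.lift_eq, hX, one_mul] at h3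
      rw [h2, mul_one]
  let χ' : chartRing G j →+* Q := Ideal.Quotient.lift _ χ (by
    intro a ha
    obtain ⟨b, rfl⟩ := Ideal.mem_span_singleton'.1 ha
    rw [map_mul, hχ, show π G = (0 : MvPolynomial (Fin 3) k ⧸ Ideal.span (Set.range ![X j - 1, G])) from
      Ideal.Quotient.eq_zero_iff_mem.2 (Ideal.subset_span ⟨1, by simp⟩), mul_zero])
  refine ⟨Function.LeftInverse.injective (g := χ') ?_, ?_⟩
  · intro x
    obtain ⟨q, rfl⟩ := Ideal.Quotient.mk_surjective x
    exact hχ q
  · intro y
    obtain ⟨a, rfl⟩ := Ideal.Quotient.mk_surjective y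
    obtain ⟨q, rfl⟩ := Misc3Bertini.evalFrac_surjective k 2 j a
    exact ⟨Ideal.Quotient.mk _ q, rfl⟩

/-- The structure map of the chart of a smooth curve is smooth. -/
theorem smooth_chart {G : MvPolynomial (Fin 3) k} {j : Fin 3} (h : ChartSmooth G j) :
    RingHom.Smooth ((Ideal.Quotient.mk _ : _ →+* chartRing G j).comp (Misc3Bertini.scalar k 2 j)) := by
  let Q := MvPolynomial (Fin 3) k ⧸ Ideal.span (Set.range ![X j - 1, G])
  haveI := formallySmooth_quotient h
  haveI : Algebra.FinitePresentation k Q :=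
    Algebra.FinitePresentation.quotient (Submodule.fg_span (Set.finite_range _))
  haveI : Algebra.Smooth k Q := ⟨inferInstance, inferInstance⟩
  have h1 : RingHom.Smooth (algebraMap k Q) := RingHom.smooth_algebraMap.2 inferInstance
  have h2 := h1.comp (RingHom.Smooth.of_bijective (chartMap_bijective G j))
  have e : (chartMap G j).comp (algebraMap k Q) =
      (Ideal.Quotient.mk _ : _ →+* chartRing G j).comp (Misc3Bertini.scalar k 2 j) := by
    ext c
    show Ideal.Quotient.mk _ (Misc3Bertini.evalFrac k 2 j (algebraMap k (MvPolynomial (Fin 3) k) c)) = _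
    rw [MvPolynomial.algebraMap_eq]
    exact congrArg _ (eval₂Hom_C _ _ c)
  rw [← e]
  exact h2

/-- Smoothness is local on the source. -/
theorem smooth_isZariskiLocalAtSource :
    IsZariskiLocalAtSource (@Smooth : MorphismProperty Scheme.{u}) :=
  haveI : HasRingHomProperty (@Smooth : MorphismProperty Scheme.{u}) RingHom.Smooth := inferInstance
  HasRingHomProperty.instIsZariskiLocalAtSource (P := (@Smooth : MorphismProperty Scheme.{u}))

variable (k) in
/-- The `j`-th chart as an affine open. -/
noncomputable def chartAff (j : Fin 3) : (CohB1.ProjSpace 2 k).affineOpens :=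
  ⟨LefPen.chart 2 k j,
    Proj.isAffineOpen_basicOpen (CohB1.polyGrading 2 k) _ (LefPen.X_mem 2 k j) one_pos⟩

variable (k) in
/-- The coordinate ring of the chart. -/
noncomputable def toChart (j : Fin 3) :
    CommRingCat.of (Away (CohB1.polyGrading 2 k) (X j : MvPolynomial (Fin 3) k)) ⟶
      Γ(CohB1.ProjSpace 2 k, (chartAff k j).1) :=
  Proj.awayToSection (CohB1.polyGrading 2 k) (X j)

theorem toChart_bijective (j : Fin 3) : Function.Bijective (toChart k j).hom :=
  (Proj.basicOpenIsoAway (CohB1.polyGrading 2 k) _ (LefPen.X_mem 2 k j)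
    one_pos).commRingCatIsoToRingEquiv.bijective

theorem fromSpec_toSpec (j : Fin 3) :
    (chartAff k j).2.fromSpec ≫ CohB1.ProjSpace.toSpec 2 k =
      Spec.map (CommRingCat.ofHom (Misc3Bertini.scalar k 2 j) ≫ toChart k j) := by
  have hU : IsAffineOpen (LefPen.chart 2 k j) := (chartAff k j).2
  have hfrom : hU.fromSpec = Spec.map (toChart k j) ≫
      Proj.awayι (CohB1.polyGrading 2 k) (X j) (LefPen.X_mem 2 k j) one_pos := by
    refine (cancel_epi hU.isoSpec.hom).1 ?_
    refine (hU.isoSpec.hom_inv_id_assoc _).trans ?_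
    exact ((Category.assoc _ _ _).symm.trans ((Category.assoc _ _ _).symm.trans
      (congrArg (· ≫ (Proj.basicOpen (CohB1.polyGrading 2 k) (X j)).ι)
        (Proj.basicOpenIsoSpec (CohB1.polyGrading 2 k) (X j) (LefPen.X_mem 2 k j)
          one_pos).hom_inv_id))).trans (Category.id_comp _) |>.symm
  refine (congrArg (· ≫ CohB1.ProjSpace.toSpec 2 k) hfrom).trans ?_
  refine (Category.assoc _ _ _).trans ?_
  refine (congrArg (_ ≫ ·) (Proj.awayι_toSpecZero_assoc _ _ _ _ _)).trans ?_
  refine Eq.trans ?_ (Spec.map_comp _ _).symm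
  exact congrArg (_ ≫ ·) (Spec.map_comp _ _).symm

theorem cover_comp {X : Scheme.{u}} (I : X.IdealSheafData) (U : X.affineOpens)
    {R : CommRingCat.{u}} (g : X ⟶ Spec R) (ψ : R ⟶ Γ(X, U.1))
    (hψ : U.2.fromSpec ≫ g = Spec.map ψ) :
    I.subschemeCover.f U ≫ I.subschemeι ≫ g =
      Spec.map (ψ ≫ CommRingCat.ofHom (Ideal.Quotient.mk (I.ideal U))) := by
  refine (Category.assoc _ _ _).symm.trans ?_
  refine (congrArg (· ≫ g) ((I.subschemeCover_map_subschemeι U).trans (I.glueDataObjι_ι U))).trans ?_
  exact ((Category.assoc _ _ _).trans (congrArg (_ ≫ ·) hψ)).trans (Spec.map_comp _ _).symm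

open Groth.PicAux in
/-- **Jacobian criterion** for a plane curve. -/
theorem smooth_hypIdeal {d : ℕ} (G : LefPen.Form 2 k d)
    (h : ∀ j, ChartSmooth (G.1 : MvPolynomial (Fin 3) k) j) :
    Smooth ((LefPen.hypIdeal G).subschemeι ≫ CohB1.ProjSpace.toSpec 2 k) := by
  haveI := smooth_isZariskiLocalAtSource.{u}
  have hcov : ⨆ j, ((LefPen.hypIdeal G).subschemeι ⁻¹ᵁ (chartAff k j).1) = ⊤ := by
    rw [← Scheme.Hom.preimage_iSup, show (⨆ j, (chartAff k j).1) = ⊤ from
      Proj.iSup_basicOpen_eq_top _ _ Groth.Chow.ToPn.irrelevant_le_span_X]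
    rfl
  refine IsZariskiLocalAtSource.of_iSup_eq_top (P := @Smooth) _ hcov fun j => ?_
  rw [← (LefPen.hypIdeal G).opensRange_subschemeCover_map (chartAff k j)]
  set f := (LefPen.hypIdeal G).subschemeCover.f (chartAff k j) with hfdef
  haveI : IsOpenImmersion f := (LefPen.hypIdeal G).subschemeCover.map_prop (chartAff k j)
  rw [← f.isoOpensRange_inv_comp, Category.assoc]
  have e := cover_comp (LefPen.hypIdeal G) (chartAff k j) (CohB1.ProjSpace.toSpec 2 k) _
    (fromSpec_toSpec j)
  haveI : HasRingHomProperty (@Smooth : MorphismProperty Scheme.{u}) RingHom.Smooth := inferInstance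
  suffices Smooth (f ≫ (LefPen.hypIdeal G).subschemeι ≫ CohB1.ProjSpace.toSpec 2 k) by
    exact inferInstanceAs (Smooth (f.isoOpensRange.inv ≫ _))
  refine (congrArg (fun t => Smooth t) e).mpr ?_
  refine (HasRingHomProperty.Spec_iff (P := @Smooth)).2 ?_
  have hI : (LefPen.hypIdeal G).ideal (chartAff k j) = Ideal.span {LefPen.dehom G j} := by
    have hL := Groth.PlaneCurve.isInvertible_twistProjSpace (r := 2) (k := k) (d : ℤ)
    rw [Groth.PlaneCurve.hypIdeal_eq_zeroScheme]
    exact Variety2.Zero.zeroScheme_ideal_eq_span hL (Groth.PlaneCurve.formHom G) (chartAff k j)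
      (Groth.PlaneCurve.gen_frame (k := k) j d)
      ((Groth.PlaneCurve.formHom_app_of_le G j le_rfl).trans
        (congrArg₂ (· • ·) (resX_self _ _) (res_self _ _)))
  have hd : (G.1 : MvPolynomial (Fin 3) k) ∈ CohB1.polyGrading 2 k (d • 1) := by
    rw [smul_eq_mul, mul_one]; exact G.2
  let e' := RingEquiv.ofBijective (toChart k j).hom (toChart_bijective j)
  have he : e' (Misc3Bertini.evalFrac k 2 j G.1) = LefPen.dehom G j := by
    rw [Misc3Bertini.evalFrac_eq_mk k 2 j hd]
    rfl
  let q : chartRing (G.1 : MvPolynomial (Fin 3) k) j ≃+*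
      Γ(CohB1.ProjSpace 2 k, (chartAff k j).1) ⧸ (LefPen.hypIdeal G).ideal (chartAff k j) :=
    Ideal.quotientEquiv _ _ e' (by rw [hI, Ideal.map_span, Set.image_singleton, ← he]; rfl)
  exact (smooth_chart (h j)).comp (RingHom.Smooth.of_bijective (f := q.toRingHom) q.bijective)

end Groth.Misc14.M1
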