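import Mathlib
import Groth.Agent.Misc14.M1.Glue
import Groth.Agent.Misc14.M1.PlaneSmooth
import Groth.Agent.PlaneCurve.Curve
import Groth.Agent.EllGroup.Main
import Groth.Agent.CurveBridge.BaseChange
import Groth.Agent.FBaseGeom.Dim

/-!
# A curve of genus one with a nontrivial translation
-/

set_option autoImplicit false
set_option linter.style.haveILetI false

universe u

open CategoryTheory CategoryTheory.Limits AlgebraicGeometry MvPolynomial
open MonoidalCategory CartesianMonoidalCategory MonObj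

namespace Groth.Misc14.M1

variable {k : Type u} [Field k]

/-- In every characteristic there is a smooth plane cubic. -/
theorem exists_smooth_cubic : ∃ G : LefPen.Form 2 k 3, G ≠ 0 ∧
    ∀ j, ChartSmooth (G.1 : MvPolynomial (Fin 3) k) j := by
  by_cases h3 : (3 : k) = 0
  · have hC : (3 : MvPolynomial (Fin 3) k) = 0 := by
      rw [show (3 : MvPolynomial (Fin 3) k) = C 3 from (map_ofNat C 3).symm, h3, map_zero]
    refine ⟨⟨X 1 ^ 2 * X 2 - X 0 ^ 3 + X 0 * X 2 ^ 2,
      (((isHomogeneous_X k (1 : Fin 3)).pow 2).mul (isHomogeneous_X k 2)).sub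
        ((isHomogeneous_X k (0 : Fin 3)).pow 3) |>.add
        ((isHomogeneous_X k (0 : Fin 3)).mul ((isHomogeneous_X k 2).pow 2))⟩, ?_, ?_⟩
    · intro h
      have := congrArg (fun G : LefPen.Form 2 k 3 => eval ![1, 0, 0] G.1) h
      simp at this
    · intro j
      have hmem : ∀ (a b : MvPolynomial (Fin 3) k) (v : Fin 2 → MvPolynomial (Fin 3) k),
          a * v 0 + b * v 1 ∈ Ideal.span (Set.range v) := fun a b v =>
        add_mem (Ideal.mul_mem_left _ _ (Ideal.subset_span ⟨0, rfl⟩))
          (Ideal.mul_mem_left _ _ (Ideal.subset_span ⟨1, rfl⟩))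
      fin_cases j
      · refine ⟨![0, X 1, -X 2], rfl, ?_⟩
        convert hmem (X 0 ^ 2 + X 0 + 1) 1 _ using 1
        simp [Fin.sum_univ_three, pderiv_mul, pderiv_pow, pderiv_X, Pi.single_apply]
        linear_combination (-X 0 * X 2 ^ 2) * hC
      · refine ⟨![X 0 ^ 2, 0, 1 + X 0 * X 2], rfl, ?_⟩
        convert hmem ((X 1 + 1) * (1 + X 0 * X 2)) 0 _ using 1
        simp [Fin.sum_univ_three, pderiv_mul, pderiv_pow, pderiv_X, Pi.single_apply]
        linear_combination (X 0 * X 2 + X 0 ^ 2 * X 2 ^ 2 - X 0 ^ 4) * hC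
      · refine ⟨![1, 0, 0], rfl, ?_⟩
        convert hmem (X 2 + 1) 0 _ using 1
        simp [Fin.sum_univ_three, pderiv_mul, pderiv_pow, pderiv_X, Pi.single_apply]
        linear_combination (-X 0 ^ 2) * hC
  · refine ⟨⟨∑ i, X i ^ 3, IsHomogeneous.sum _ _ _ fun i _ => (isHomogeneous_X k i).pow 3⟩, ?_, ?_⟩
    · intro h
      have := congrArg (fun G : LefPen.Form 2 k 3 => eval ![1, 0, 0] G.1) h
      simp [Fin.sum_univ_three] at this
    · intro j
      refine ⟨fun i => if i = j then 0 else -C (3 : k)⁻¹ * X i, if_pos rfl, ?_⟩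
      have hd : ∀ i : Fin 3, pderiv i (∑ l, (X l : MvPolynomial (Fin 3) k) ^ 3) = C (3 : k) * X i ^ 2 := by
        intro i
        simp [map_sum, pderiv_pow, pderiv_X, Pi.single_apply, map_ofNat]
      have hs : ∀ i : Fin 3, (if i = j then 0 else -C (3 : k)⁻¹ * X i) *
          pderiv i (∑ l, (X l : MvPolynomial (Fin 3) k) ^ 3) =
          (if i = j then X i ^ 3 else 0) - X i ^ 3 := by
        intro i
        rw [hd]
        by_cases hij : i = j
        · simp [hij]
        · have : (C (3 : k)⁻¹ : MvPolynomial (Fin 3) k) * C 3 = 1 := by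
            rw [← map_mul, inv_mul_cancel₀ h3, map_one]
          rw [if_neg hij, if_neg hij]
          linear_combination (-(X i : MvPolynomial (Fin 3) k) ^ 3) * this
      rw [Finset.sum_congr rfl fun i _ => hs i, Finset.sum_sub_distrib, Finset.sum_ite_eq',
        if_pos (Finset.mem_univ _)]
      have : (X j : MvPolynomial (Fin 3) k) ^ 3 - (∑ i, X i ^ 3) - 1 =
          (X j ^ 2 + X j + 1) * (X j - 1) + (-1) * (∑ i, X i ^ 3) := by ring
      rw [this]
      exact add_mem (Ideal.mul_mem_left _ _ (Ideal.subset_span ⟨0, rfl⟩))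
        (Ideal.mul_mem_left _ _ (Ideal.subset_span ⟨1, rfl⟩))

/-- A smooth proper geometrically irreducible curve over a field is a good fibre. -/
theorem goodFibre {X : Scheme.{u}} [X.Over (Spec (CommRingCat.of k))]
    [IsProper (X ↘ Spec (CommRingCat.of k))] [Smooth (X ↘ Spec (CommRingCat.of k))]
    [GeometricallyIrreducible (X ↘ Spec (CommRingCat.of k))] (g : ℕ)
    (hdim : topologicalKrullDim X = 1) (hg : Curv2.genus k X = g) :
    GoodFibre g (X ↘ Spec (CommRingCat.of k)) := by
  refine ⟨inferInstance, inferInstance, fun K _ Y i q t h =>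
    GeometricallyIrreducible.geometrically_irreducibleSpace t i q h, ?_⟩
  intro Ω _ _ t Y i q h
  obtain ⟨φ, rfl⟩ : ∃ φ, Spec.map φ = t := ⟨_, Spec.map_preimage t⟩
  letI : Algebra k Ω := φ.hom.toAlgebra
  letI : Y.Over (Spec (CommRingCat.of Ω)) := ⟨q⟩
  constructor
  · have e : Y ≅ FBase.bc (X ↘ Spec (CommRingCat.of k)) Ω :=
      (show IsPullback i q (X ↘ Spec (CommRingCat.of k))
        (Spec.map (CommRingCat.ofHom (algebraMap k Ω))) from h).isoPullback
    refine ((Scheme.homeoOfIso e).isHomeomorph.topologicalKrullDim_eq _).trans ?_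
    exact (Groth.FBaseGeom.dim_bc (X ↘ Spec (CommRingCat.of k)) Ω).trans hdim
  · haveI : CompactSpace X := QuasiCompact.compactSpace_of_compactSpace (X ↘ Spec (CommRingCat.of k))
    haveI := Groth.HilbStab.BC.isSeparated_of_proper k X
    haveI := Groth.CurveBridge.isQuasicoherent_structure X
    obtain ⟨e⟩ := Groth.PicAux.pullback_structure_iso i
    refine ((Groth.EulerDeg.finrank_congr (k := Ω) e 1).symm.trans ?_).trans hg
    exact Groth.HilbStab.BC.finrank_HH_baseChange (k := k) (K := Ω) (g := i) h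
      (Coh.structureModule X) 1

/-- There is a curve of genus one over an algebraically closed field with a point moved by an
automorphism. -/
theorem exists_genus_one [IsAlgClosed k] :
    ∃ (E : Scheme.{u}) (p : E ⟶ Spec (CommRingCat.of k)), GoodFibre 1 p ∧
      ∃ (σ : E ≅ E) (o : Spec (CommRingCat.of k) ⟶ E),
        σ.hom ≫ p = p ∧ o ≫ p = 𝟙 _ ∧ o ≫ σ.hom ≠ o := by
  obtain ⟨G, hG, hs⟩ := exists_smooth_cubic (k := k)
  letI inst : ((LefPen.hypIdeal G).subscheme).Over (Spec (CommRingCat.of k)) :=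
    ⟨(LefPen.hypIdeal G).subschemeι ≫ CohB1.ProjSpace.toSpec 2 k⟩
  have hinst : (LefPen.hypIdeal G).subscheme ↘ Spec (CommRingCat.of k) =
      (LefPen.hypIdeal G).subschemeι ≫ CohB1.ProjSpace.toSpec 2 k := rfl
  let E := (LefPen.hypIdeal G).subscheme
  let p := E ↘ Spec (CommRingCat.of k)
  haveI hpr : IsProper p := Groth.PlaneCurve.isProper_curve G hinst
  haveI hsm : Smooth p := smooth_hypIdeal G hs
  haveI hconn : ConnectedSpace E := Groth.PlaneCurve.connected G hinst (by norm_num) hG
  have hdim : topologicalKrullDim E = 1 := Groth.PlaneCurve.dim_eq_one G hinst le_rfl hG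
  have hg : Curv2.genus k E = 1 := Groth.PlaneCurve.h1_structure G hinst hG
  haveI : JacobsonSpace E := LocallyOfFiniteType.jacobsonSpace p
  -- two closed points
  obtain ⟨x, y, hx, hy, hxy⟩ : ∃ x y : E, x ∈ closedPoints E ∧ y ∈ closedPoints E ∧ x ≠ y := by
    obtain ⟨x, hx⟩ : (closedPoints E).Nonempty := by
      by_contra he
      rw [Set.not_nonempty_iff_eq_empty] at he
      have h := closure_closedPoints (X := E)
      rw [he, closure_empty] at h
      exact Set.univ_nonempty.ne_empty h.symm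
    by_contra hcon
    push Not at hcon
    have hsub : closedPoints E ⊆ {x} := fun y hy => (hcon x y hx hy).symm
    have huniv : (Set.univ : Set E) ⊆ {x} := by
      rw [← closure_closedPoints (X := E)]
      exact closure_minimal hsub hx
    haveI : Subsingleton E := ⟨fun a b => (huniv (Set.mem_univ a)).trans (huniv (Set.mem_univ b)).symm⟩
    have := topologicalKrullDim_zero_of_discreteTopology E
    rw [hdim] at this
    exact absurd this (not_le.2 zero_lt_one)
  let XX : Over (Spec (CommRingCat.of k)) := Over.mk p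
  haveI : IsProper XX.hom := hpr
  haveI : Smooth XX.hom := hsm
  haveI : ConnectedSpace XX.left := hconn
  haveI : LocallyOfFiniteType p := inferInstance
  let ox : 𝟙_ (Over (Spec (CommRingCat.of k))) ⟶ XX :=
    Over.homMk (pointOfClosedPoint p x hx) (pointOfClosedPoint_comp p x hx)
  let oy : 𝟙_ (Over (Spec (CommRingCat.of k))) ⟶ XX :=
    Over.homMk (pointOfClosedPoint p y hy) (pointOfClosedPoint_comp p y hy)
  obtain ⟨grp, hone, -⟩ := Groth.EllGroup.exists_grpObj XX hdim hg ox
  letI := grp
  haveI hgi : GeometricallyIntegral p :=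
    Groth.EllGroup.geometricallyIntegral_of_section p _ (pointOfClosedPoint_comp p x hx)
  let tr : (𝟙_ (Over (Spec (CommRingCat.of k))) ⟶ XX) → (XX ⟶ XX) := fun Q => 𝟙 XX * (toUnit XX ≫ Q)
  have htr : ∀ Q, tr Q ≫ tr Q⁻¹ = 𝟙 XX := fun Q => by
    simp only [tr, MonObj.comp_mul, Category.comp_id]
    rw [← Category.assoc, toUnit_unique (_ ≫ toUnit XX) (toUnit XX), GrpObj.comp_inv,
      _root_.mul_assoc, mul_inv_cancel, _root_.mul_one]
  let σO : XX ≅ XX := ⟨tr oy, tr oy⁻¹, htr oy, by have := htr oy⁻¹; rwa [inv_inv] at this⟩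
  let σ : E ≅ E := (Over.forget _).mapIso σO
  have hσo : ox ≫ σO.hom = oy := by
    have h1 : (1 : 𝟙_ (Over (Spec (CommRingCat.of k))) ⟶ XX) = ox := by
      rw [Hom.one_def, toUnit_unique (toUnit _) (𝟙 _), Category.id_comp]; exact hone
    show ox ≫ (𝟙 XX * (toUnit XX ≫ oy)) = oy
    rw [MonObj.comp_mul, Category.comp_id, ← Category.assoc, toUnit_unique (ox ≫ toUnit XX) (𝟙 _),
      Category.id_comp, ← h1, _root_.one_mul]
  refine ⟨E, p, goodFibre 1 hdim hg, σ, pointOfClosedPoint p x hx, Over.w σO.hom,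
    pointOfClosedPoint_comp p x hx, fun h => hxy ?_⟩
  have h2 : pointOfClosedPoint p y hy = pointOfClosedPoint p x hx :=
    (congrArg CommaMorphism.left hσo).symm.trans h
  exact (pointOfClosedPoint_apply p x hx (IsLocalRing.closedPoint k)).symm.trans
    ((congrArg (fun t : Spec (CommRingCat.of k) ⟶ E => t (IsLocalRing.closedPoint k)) h2.symm).trans
      (pointOfClosedPoint_apply p y hy (IsLocalRing.closedPoint k)))

end Groth.Misc14.M1
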