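import Groth.Agent.Misc14.M1.Glue

/-!
# The affine node with its two branches
-/

set_option autoImplicit false
set_option linter.style.haveILetI false

universe u

open CategoryTheory AlgebraicGeometry

namespace Groth.Misc14.M1

variable (k : Type u) [Field k]

/-- The coordinate ring of two lines meeting in a point. -/
abbrev NodeRing : Type u :=
  MvPolynomial (Fin 2) k ⧸
    Ideal.span {(MvPolynomial.X 0 * MvPolynomial.X 1 : MvPolynomial (Fin 2) k)}

/-- The coordinate functions on the node. -/
noncomputable def nodeCoord (i : Fin 2) : NodeRing k := Ideal.Quotient.mk _ (MvPolynomial.X i)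

theorem nodeCoord_mul : nodeCoord k 0 * nodeCoord k 1 = 0 := by
  rw [nodeCoord, nodeCoord, ← map_mul]
  exact Ideal.Quotient.eq_zero_iff_mem.2 (Ideal.mem_span_singleton_self _)

/-- The branches. -/
noncomputable def branch (v : Fin 2 → Polynomial k) (hv : v 0 * v 1 = 0) :
    NodeRing k →ₐ[k] Polynomial k :=
  Ideal.Quotient.liftₐ _ (MvPolynomial.aeval v) fun a ha => by
    obtain ⟨b, rfl⟩ := Ideal.mem_span_singleton'.1 ha
    simp [hv]

theorem branch_coord (v : Fin 2 → Polynomial k) (hv : v 0 * v 1 = 0) (i : Fin 2) :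
    branch k v hv (nodeCoord k i) = v i :=
  MvPolynomial.aeval_X v i

/-- The node datum. -/
noncomputable def node : Node k where
  U := Spec (CommRingCat.of (NodeRing k))
  sU := Spec.map (CommRingCat.ofHom (algebraMap k (NodeRing k)))
  Da := PrimeSpectrum.basicOpen (nodeCoord k 0)
  Db := PrimeSpectrum.basicOpen (nodeCoord k 1)
  disj := by
    rw [Set.disjoint_left]
    intro x hx hy
    change nodeCoord k 0 ∉ x.asIdeal at hx
    change nodeCoord k 1 ∉ x.asIdeal at hy
    rcases x.isPrime.mem_or_mem ((nodeCoord_mul k).symm ▸ x.asIdeal.zero_mem) with h | h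
    · exact hx h
    · exact hy h
  A := Spec (CommRingCat.of (Polynomial k))
  sA := Spec.map (CommRingCat.ofHom (algebraMap k (Polynomial k)))
  za := Spec.map (CommRingCat.ofHom (branch k ![Polynomial.X, 0] (by simp)).toRingHom)
  zb := Spec.map (CommRingCat.ofHom (branch k ![0, Polynomial.X] (by simp)).toRingHom)
  za_over := by
    rw [← Spec.map_comp]; congr 1; refine CommRingCat.hom_ext (RingHom.ext fun c => ?_)
    exact (branch k ![Polynomial.X, 0] (by simp)).commutes c
  zb_over := by
    rw [← Spec.map_comp]; congr 1; refine CommRingCat.hom_ext (RingHom.ext fun c => ?_)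
    exact (branch k ![0, Polynomial.X] (by simp)).commutes c
  za_mem := by
    refine ⟨(⟨⊥, Ideal.isPrime_bot⟩ : PrimeSpectrum (Polynomial k)), ?_⟩
    change nodeCoord k 0 ∉ (⊥ : Ideal (Polynomial k)).comap _
    rw [Ideal.mem_comap, Ideal.mem_bot]
    change branch k ![Polynomial.X, 0] (by simp) (nodeCoord k 0) ≠ 0
    rw [branch_coord]
    exact Polynomial.X_ne_zero
  zb_mem := by
    refine ⟨(⟨⊥, Ideal.isPrime_bot⟩ : PrimeSpectrum (Polynomial k)), ?_⟩
    change nodeCoord k 1 ∉ (⊥ : Ideal (Polynomial k)).comap _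
    rw [Ideal.mem_comap, Ideal.mem_bot]
    change branch k ![0, Polynomial.X] (by simp) (nodeCoord k 1) ≠ 0
    rw [branch_coord]
    exact Polynomial.X_ne_zero
  c₀ := Spec.map (CommRingCat.ofHom (Polynomial.evalRingHom (0 : k)))
  c₀_over := by
    rw [← Spec.map_comp]
    refine Eq.trans ?_ (Spec.map_id _)
    congr 1; ext c
    exact Polynomial.eval_C
  c₀_eq := by
    rw [← Spec.map_comp, ← Spec.map_comp]
    congr 1
    ext1
    refine Ideal.Quotient.ringHom_ext (MvPolynomial.ringHom_ext (fun c => ?_) fun i => ?_)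
    · show Polynomial.eval 0 (MvPolynomial.aeval _ (MvPolynomial.C c)) =
        Polynomial.eval 0 (MvPolynomial.aeval _ (MvPolynomial.C c))
      simp only [MvPolynomial.aeval_C]
    · show Polynomial.eval 0 (MvPolynomial.aeval _ (MvPolynomial.X i)) =
        Polynomial.eval 0 (MvPolynomial.aeval _ (MvPolynomial.X i))
      simp only [MvPolynomial.aeval_X]
      fin_cases i <;> simp

end Groth.Misc14.M1
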